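import Cfsg.Agent.SolvStruct.PElementCount.Coprime
import Cfsg.Agent.GaschutzYen.Basic

/-! Lower bound for the number of `p`-elements of a `p`-solvable group. -/

set_option autoImplicit false
set_option linter.unusedSectionVars false
set_option linter.style.haveILetI false

namespace Cfsg.Lib.PElementCount

open Subgroup
open scoped Pointwise

universe u

variable {p : ℕ} [hp : Fact p.Prime]

/-- `p`-elements -/
noncomputable def El (p : ℕ) (G : Type u) [Group G] [Finite G] : Finset G :=
  letI := Fintype.ofFinite G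
  letI := Classical.decPred fun g : G => IsPGroup p (zpowers g)
  Finset.univ.filter fun g => IsPGroup p (zpowers g)

theorem mem_El {G : Type u} [Group G] [Finite G] {g : G} : g ∈ El p G ↔ IsPGroup p (zpowers g) := by
  simp [El]

theorem isPGroup_zpowers_iff {G : Type u} [Group G] [Finite G] {g : G} :
    IsPGroup p (zpowers g) ↔ ∃ k : ℕ, orderOf g = p ^ k := by
  rw [IsPGroup.iff_card, Nat.card_zpowers]

noncomputable abbrev expo (p : ℕ) : ℝ := ((p : ℝ) - 1) / p

/-- the inductive statement -/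
def Bound (p : ℕ) (G : Type u) [Group G] [Finite G] : Prop :=
  ∀ L : G → ℝ, (∀ g x : G, L (g * x * g⁻¹) = L x) → ∀ P : Sylow p G,
    letI := Fintype.ofFinite (P : Subgroup G)
    Real.exp (Real.log (Nat.card (P : Subgroup G)) + expo p * Real.log (Nat.card (Sylow p G)) +
      (∑ x : (P : Subgroup G), L x) / Nat.card (P : Subgroup G)) ≤ ∑ x ∈ El p G, Real.exp (L x)

theorem sum_exp_ge {ι : Type*} (s : Finset ι) (hs : s.Nonempty) (f : ι → ℝ) :
    Real.exp ((∑ i ∈ s, f i) / s.card + Real.log s.card) ≤ ∑ i ∈ s, Real.exp (f i) := by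
  set m := (∑ i ∈ s, f i) / s.card with hm
  have hc : (0 : ℝ) < s.card := by exact_mod_cast hs.card_pos
  rw [Real.exp_add, Real.exp_log hc]
  have h : ∀ i ∈ s, Real.exp m * (f i - m + 1) ≤ Real.exp (f i) := by
    intro i _
    have := mul_le_mul_of_nonneg_left (Real.add_one_le_exp (f i - m)) (Real.exp_pos m).le
    rwa [← Real.exp_add m (f i - m), add_sub_cancel] at this
  refine le_trans (le_of_eq ?_) (Finset.sum_le_sum h)
  rw [← Finset.mul_sum, Finset.sum_add_distrib, Finset.sum_sub_distrib, Finset.sum_const, Finset.sum_const,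
    nsmul_eq_mul, nsmul_eq_mul, hm]
  field_simp
  ring

variable {G : Type u} [Group G] [Finite G]

theorem exists_lift (N : Subgroup G) [N.Normal] {a : G ⧸ N} (ha : IsPGroup p (zpowers a)) :
    ∃ g ∈ El p G, (g : G ⧸ N) = a := by
  obtain ⟨g, rfl⟩ := QuotientGroup.mk'_surjective N a
  obtain ⟨k, m, hm, hgm⟩ := Nat.exists_eq_pow_mul_and_not_dvd (orderOf_pos g).ne' p hp.out.ne_one
  obtain ⟨j, hj⟩ := isPGroup_zpowers_iff.1 ha
  have hcop : m.Coprime (orderOf (QuotientGroup.mk' N g)) :=
    hj ▸ (Nat.coprime_comm.1 (hp.out.coprime_iff_not_dvd.2 hm)).pow_right j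
  obtain ⟨c, hc⟩ : ∃ c, (QuotientGroup.mk' N g ^ m) ^ c = QuotientGroup.mk' N g :=
    exists_pow_eq_self_of_coprime hcop
  refine ⟨(g ^ m) ^ c, mem_El.2 (isPGroup_zpowers_iff.2 ?_), by rw [← hc]; rfl⟩
  have h1 : ((g ^ m) ^ c) ^ p ^ k = 1 := by
    rw [← pow_mul, ← pow_mul, show m * (c * p ^ k) = p ^ k * m * c by ring, ← hgm, pow_mul, pow_orderOf_eq_one, one_pow]
  obtain ⟨i, -, hi⟩ := (Nat.dvd_prime_pow hp.out).1 (orderOf_dvd_of_pow_eq_one h1)
  exact ⟨i, hi⟩

/-- the `p`-elements in a coset -/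
noncomputable def fib (p : ℕ) (N : Subgroup G) [N.Normal] (a : G ⧸ N) : Finset G :=
  letI := Classical.decPred fun g : G => QuotientGroup.mk' N g = a
  (El p G).filter fun g => QuotientGroup.mk' N g = a

theorem mem_fib {N : Subgroup G} [N.Normal] {a : G ⧸ N} {g : G} :
    g ∈ fib p N a ↔ g ∈ El p G ∧ QuotientGroup.mk' N g = a := by
  unfold fib
  exact @Finset.mem_filter _ _ (Classical.decPred _) _ _

/-- generic fibre bound -/
theorem step (N : Subgroup G) [N.Normal] (hB : Bound p (G ⧸ N)) (L : G → ℝ) (hL : ∀ g x : G, L (g * x * g⁻¹) = L x)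
    (Lq : G ⧸ N → ℝ)
    (hLq : ∀ a : G ⧸ N, Lq a = (∑ x ∈ fib p N a, L x) / (fib p N a).card + Real.log (fib p N a).card)
    (Pq : Sylow p (G ⧸ N)) :
    letI := Fintype.ofFinite (Pq : Subgroup (G ⧸ N))
    Real.exp (Real.log (Nat.card (Pq : Subgroup (G ⧸ N))) + expo p * Real.log (Nat.card (Sylow p (G ⧸ N))) +
      (∑ x : (Pq : Subgroup (G ⧸ N)), Lq x) / Nat.card (Pq : Subgroup (G ⧸ N))) ≤ ∑ x ∈ El p G, Real.exp (L x) := by
  classical
  have hconj : ∀ g a : G ⧸ N, Lq (g * a * g⁻¹) = Lq a := by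
    intro g a
    obtain ⟨g, rfl⟩ := QuotientGroup.mk'_surjective N g
    rw [hLq, hLq]
    have e : fib p N (QuotientGroup.mk' N g * a * (QuotientGroup.mk' N g)⁻¹) =
        (fib p N a).map (MulAut.conj g).toEquiv.toEmbedding := by
      ext x
      rw [Finset.mem_map_equiv, mem_fib, mem_fib, show (MulAut.conj g).toEquiv.symm x = g⁻¹ * x * g from rfl,
        mem_El, mem_El, isPGroup_zpowers_iff, isPGroup_zpowers_iff, show orderOf (g⁻¹ * x * g) = orderOf x by
          rw [show g⁻¹ * x * g = MulAut.conj g⁻¹ x by simp]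
          exact orderOf_injective (MulAut.conj g⁻¹).toMonoidHom (MulAut.conj g⁻¹).injective x,
        map_mul, map_mul, map_inv]
      refine and_congr Iff.rfl ⟨fun h => by rw [h]; group, fun h => by rw [← h]; group⟩
    rw [e, Finset.card_map, Finset.sum_map]
    simp only [Equiv.coe_toEmbedding, MulEquiv.toEquiv_eq_coe, EquivLike.coe_coe, MulAut.conj_apply, hL]
  refine (hB Lq hconj Pq).trans ?_
  rw [← Finset.sum_fiberwise_of_maps_to (s := El p G) (t := El p (G ⧸ N)) (g := QuotientGroup.mk' N)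
    fun x hx => mem_El.2 ((MonoidHom.map_zpowers (QuotientGroup.mk' N) x) ▸ (mem_El.1 hx).map _)]
  refine Finset.sum_le_sum fun a ha => ?_
  obtain ⟨g, hg, hga⟩ := exists_lift N (mem_El.1 ha)
  rw [hLq]
  refine le_trans (sum_exp_ge _ ⟨g, mem_fib.2 ⟨hg, hga⟩⟩ L) (le_of_eq ?_)
  refine Finset.sum_congr ?_ fun _ _ => rfl
  ext x
  rw [mem_fib, Finset.mem_filter]

theorem card_sylow (P : Sylow p G) :
    Nat.card (Sylow p G) * Nat.card (normalizer ((P : Subgroup G) : Set G)) = Nat.card G := by
  rw [P.card_eq_index_normalizer, mul_comm]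
  exact card_mul_index _

theorem le_of_normal_pGroup (P : Sylow p G) {M : Subgroup G} [M.Normal] (hM : IsPGroup p M) :
    M ≤ (P : Subgroup G) :=
  (P.3 (hM.to_sup_of_normal_left P.2) le_sup_right) ▸ le_sup_left

theorem le_normalizer_normal {H N : Subgroup G} [N.Normal] : H ≤ normalizer (N : Set G) :=
  le_top.trans (le_of_eq (normalizer_eq_top_iff.2 inferInstance).symm)

theorem mem_El_of_mem (P : Sylow p G) {x : G} (hx : x ∈ (P : Subgroup G)) : x ∈ El p G :=
  mem_El.2 (P.2.to_le (zpowers_le.2 hx))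

theorem sum_sylow [Fintype G] [DecidableEq G] (P : Sylow p G) [DecidablePred (· ∈ (P : Subgroup G))]
    {hF : Fintype (P : Subgroup G)} (f : G → ℝ) :
    ∑ x : (P : Subgroup G), f x = ∑ x ∈ Finset.univ.filter (· ∈ (P : Subgroup G)), f x := by
  exact (Finset.sum_subtype _ (fun x => by simp) f).symm

theorem card_filter_mem [Fintype G] (H : Subgroup G) [DecidablePred (· ∈ H)] :
    (Finset.univ.filter (· ∈ H)).card = Nat.card H := by
  rw [Nat.card_eq_fintype_card, Fintype.card_subtype]

/-- normal `p`-subgroup at the bottom -/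
theorem bound_of_pGroup (M : Subgroup G) [M.Normal] (hM : IsPGroup p M) (hB : Bound p (G ⧸ M)) :
    Bound p G := by
  classical
  intro L hL P
  cases nonempty_fintype G
  haveI : Fintype (G ⧸ M) := Fintype.ofFinite _
  set f := QuotientGroup.mk' M
  set Pq : Sylow p (G ⧸ M) := P.mapSurjective (QuotientGroup.mk'_surjective M)
  have hPq : (Pq : Subgroup (G ⧸ M)) = (P : Subgroup G).map f := rfl
  have hMP : M ≤ (P : Subgroup G) := Cfsg.Lib.PElementCount.le_of_normal_pGroup P hM
  have hcomap : ((P : Subgroup G).map f).comap f = (P : Subgroup G) := by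
    rw [comap_map_eq, QuotientGroup.ker_mk', sup_eq_left.2 hMP]
  refine le_trans (le_of_eq ?_) (step M hB L hL
    (fun a => (∑ x ∈ fib p M a, L x) / (fib p M a).card + Real.log (fib p M a).card) (fun a => rfl) Pq)
  -- the number of Sylow subgroups
  have hn : Nat.card (Sylow p (G ⧸ M)) = Nat.card (Sylow p G) := by
    rw [Pq.card_eq_index_normalizer, P.card_eq_index_normalizer]
    show (normalizer ((((P : Subgroup G).map f : Subgroup (G ⧸ M))) : Set (G ⧸ M))).index =
      (normalizer ((P : Subgroup G) : Set G)).index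
    rw [← index_comap_of_surjective _ (QuotientGroup.mk'_surjective M),
      comap_normalizer_eq_of_surjective _ (QuotientGroup.mk'_surjective M), hcomap]
  have hfib : ∀ a ∈ (Pq : Subgroup (G ⧸ M)),
      fib p M a = (Finset.univ.filter (· ∈ (P : Subgroup G))).filter (fun x => f x = a) := by
    intro a ha
    ext x
    simp only [mem_fib, Finset.mem_filter, Finset.mem_univ, true_and]
    exact ⟨fun h => ⟨hcomap.le (show f x ∈ (P : Subgroup G).map f by rw [h.2]; exact ha), h.2⟩,
      fun h => ⟨mem_El_of_mem P h.1, h.2⟩⟩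
  have hcard : ∀ a ∈ (Pq : Subgroup (G ⧸ M)), (fib p M a).card = Nat.card M := by
    intro a ha
    obtain ⟨g, hg, rfl⟩ := ha
    rw [← Nat.card_eq_finsetCard]
    refine Nat.card_congr
      { toFun := fun x => ⟨g⁻¹ * x.1, (QuotientGroup.eq (s := M)).1 ((mem_fib.1 x.2).2).symm⟩
        invFun := fun m => ⟨g * m.1, mem_fib.2 ⟨mem_El_of_mem P (mul_mem hg (hMP m.2)),
          ((QuotientGroup.eq (s := M)).2 (by simp)).symm⟩⟩
        left_inv := fun x => Subtype.ext (by simp)
        right_inv := fun m => Subtype.ext (by simp) }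
  have hcardP : Nat.card (P : Subgroup G) = Nat.card (Pq : Subgroup (G ⧸ M)) * Nat.card M := by
    rw [← card_filter_mem (P : Subgroup G), ← card_filter_mem (Pq : Subgroup (G ⧸ M)),
      Finset.card_eq_sum_card_fiberwise (f := f) (t := Finset.univ.filter (· ∈ (Pq : Subgroup (G ⧸ M))))
        (fun x hx => Finset.mem_filter.2 ⟨Finset.mem_univ _, mem_map_of_mem f (Finset.mem_filter.1 hx).2⟩)]
    rw [← smul_eq_mul, ← Finset.sum_const]
    refine Finset.sum_congr rfl fun a ha => ?_
    rw [← hfib a (Finset.mem_filter.1 ha).2, hcard a (Finset.mem_filter.1 ha).2]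
  rw [sum_sylow Pq (fun a => (∑ x ∈ fib p M a, L x) / (fib p M a).card + Real.log (fib p M a).card), sum_sylow P L]
  have hsum : ∑ a ∈ Finset.univ.filter (· ∈ (Pq : Subgroup (G ⧸ M))),
      ((∑ x ∈ fib p M a, L x) / (fib p M a).card + Real.log (fib p M a).card) =
      (∑ x ∈ Finset.univ.filter (· ∈ (P : Subgroup G)), L x) / (Nat.card M) +
        Nat.card (Pq : Subgroup (G ⧸ M)) * Real.log (Nat.card M) := by
    rw [← Finset.sum_fiberwise_of_maps_to (s := Finset.univ.filter (· ∈ (P : Subgroup G))) (g := f)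
      (t := Finset.univ.filter (· ∈ (Pq : Subgroup (G ⧸ M))))
      (fun x hx => Finset.mem_filter.2 ⟨Finset.mem_univ _, mem_map_of_mem f (Finset.mem_filter.1 hx).2⟩) L,
      Finset.sum_div, ← card_filter_mem (Pq : Subgroup (G ⧸ M)), ← nsmul_eq_mul, ← Finset.sum_const,
      ← Finset.sum_add_distrib]
    refine Finset.sum_congr rfl fun a ha => ?_
    rw [hcard a (Finset.mem_filter.1 ha).2, hfib a (Finset.mem_filter.1 ha).2]
  rw [hsum, hn, hcardP, Nat.cast_mul]
  have h1 : (0 : ℝ) < Nat.card (Pq : Subgroup (G ⧸ M)) := by exact_mod_cast Nat.card_pos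
  have h2 : (0 : ℝ) < Nat.card M := by exact_mod_cast Nat.card_pos
  rw [Real.log_mul h1.ne' h2.ne']
  congr 1
  field_simp
  ring

/-- normal `p'`-subgroup at the bottom -/
theorem bound_of_coprime (N : Subgroup G) [N.Normal] (hN : ¬ p ∣ Nat.card N) (hB : Bound p (G ⧸ N)) :
    Bound p G := by
  classical
  intro L hL P
  cases nonempty_fintype G
  haveI : Fintype (G ⧸ N) := Fintype.ofFinite _
  set f := QuotientGroup.mk' N
  set Pq : Sylow p (G ⧸ N) := P.mapSurjective (QuotientGroup.mk'_surjective N)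
  have hPq : (Pq : Subgroup (G ⧸ N)) = (P : Subgroup G).map f := rfl
  have hnt : ∀ g : G, IsPGroup p (zpowers g) → g ∈ N → g = 1 := by
    intro g hg hgN
    obtain ⟨k, hk⟩ := isPGroup_zpowers_iff.1 hg
    have h := Subgroup.orderOf_dvd_natCard N hgN
    refine orderOf_eq_one_iff.1 (hk.trans ?_)
    rcases Nat.eq_zero_or_pos k with rfl | hk0
    · rfl
    · exact absurd ((dvd_pow_self p hk0.ne').trans (hk ▸ h)) hN
  have hinj : ∀ x ∈ (P : Subgroup G), ∀ y ∈ (P : Subgroup G), f x = f y → x = y := fun x hx y hy h =>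
    inv_mul_eq_one.1 (hnt _ (P.2.to_le (zpowers_le.2 (mul_mem (inv_mem hx) hy))) (QuotientGroup.eq.1 h))
  have hfibx : ∀ x ∈ (P : Subgroup G), (∀ y ∈ fib p N (f x), ∃ n ∈ N, n * x * n⁻¹ = y) := by
    intro x hx y hy
    obtain ⟨hyEl, hyx⟩ := mem_fib.1 hy
    have hyp := mem_El.1 hyEl
    have hxp := mem_El.1 (mem_El_of_mem P hx)
    have hord : ∀ z : G, IsPGroup p (zpowers z) → orderOf (f z) = orderOf z := by
      intro z hz
      refine Nat.dvd_antisymm (orderOf_map_dvd f z) (orderOf_dvd_of_pow_eq_one (hnt _ (hz.to_le ?_) ?_))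
      · exact zpowers_le.2 (pow_mem (mem_zpowers z) _)
      · rw [← QuotientGroup.eq_one_iff, QuotientGroup.mk_pow]; exact pow_orderOf_eq_one _
    set D := N ⊔ zpowers x
    have hxD : zpowers x ≤ D := le_sup_right
    have hyD : zpowers y ≤ D := by
      refine zpowers_le.2 ?_
      have h1 : x⁻¹ * y ∈ N := QuotientGroup.eq.1 hyx.symm
      have := mul_mem (hxD (mem_zpowers x)) ((le_sup_left : N ≤ D) h1)
      rwa [mul_inv_cancel_left] at this
    have hidx : ∀ z : G, IsPGroup p (zpowers z) → f z = f x → zpowers z ≤ D →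
        ¬ p ∣ ((zpowers z).subgroupOf D).index := by
      intro z hz hzx hzD
      have h1 : (zpowers z).relIndex D * Nat.card (zpowers x) = Nat.card N * Nat.card (zpowers x) := by
        have e := relIndex_mul_relIndex ⊥ (zpowers z) D bot_le hzD
        rw [relIndex_bot_left, relIndex_bot_left, Nat.card_zpowers] at e
        rw [← Cfsg.Lib.Coprime.card_sup_of_inf_eq_bot le_normalizer_normal ?_, Nat.card_zpowers, mul_comm]
        · rw [← hord x hxp, ← hzx, hord z hz]; exact e
        · exact eq_bot_iff.2 fun g hg => hnt g (hxp.to_le (zpowers_le.2 hg.2)) hg.1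
      rw [← relIndex, Nat.eq_of_mul_eq_mul_right Nat.card_pos h1]
      exact hN
    obtain ⟨d, hd⟩ := MulAction.exists_smul_eq D
      ((hxp.of_equiv (subgroupOfEquivOfLe hxD).symm).toSylow (hidx x hxp rfl hxD))
      ((hyp.of_equiv (subgroupOfEquivOfLe hyD).symm).toSylow (hidx y hyp hyx hyD))
    have hdy : (d : G)⁻¹ * y * d ∈ zpowers x := by
      have h1 : (⟨y, hyD (mem_zpowers y)⟩ : D) ∈
          (((hyp.of_equiv (subgroupOfEquivOfLe hyD).symm).toSylow (hidx y hyp hyx hyD) : Sylow p D) : Subgroup D) :=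
        mem_zpowers y
      rw [← hd] at h1
      obtain ⟨a, ha, hay⟩ := h1
      have : (d : G) * a * (d : G)⁻¹ = y := congrArg Subtype.val hay
      rw [← this]
      simpa [mul_assoc] using (show (a : G) ∈ zpowers x from ha)
    obtain ⟨w, hw, n, hn, hdnw⟩ := (Cfsg.Lib.Coprime.mem_sup_of_le_normalizer' le_normalizer_normal).1 d.2
    refine ⟨w * n * w⁻¹, Subgroup.Normal.conj_mem inferInstance n hn w, ?_⟩
    obtain ⟨j, hj⟩ := hw
    obtain ⟨i, hi⟩ := hdy
    simp only at hj hi
    have hyeq : y = w * n * w⁻¹ * x ^ i * (w * n * w⁻¹)⁻¹ := by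
      rw [show y = (d : G) * ((d : G)⁻¹ * y * d) * (d : G)⁻¹ by group, ← hi, ← hdnw, ← hj]; group
    have hfn : f (w * n * w⁻¹) = 1 :=
      (QuotientGroup.eq_one_iff _).2 (Subgroup.Normal.conj_mem inferInstance n hn w)
    have h2 : f (x ^ i) = f x := by
      rw [← hyx, hyeq, map_mul, map_mul _ (w * n * w⁻¹) (x ^ i), map_inv f (w * n * w⁻¹), hfn]
      rw [one_mul, inv_one, mul_one]
    rw [hyeq, hinj _ (zpow_mem hx i) x hx h2]
  have hfib : ∀ x ∈ (P : Subgroup G), (∀ y ∈ fib p N (f x), L y = L x) ∧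
      (fib p N (f x)).card * Nat.card (N ⊓ centralizer ({x} : Set G) : Subgroup G) = Nat.card N := by
    intro x hx
    refine ⟨fun y hy => ?_, ?_⟩
    · obtain ⟨n, -, rfl⟩ := hfibx x hx y hy
      exact hL n x
    letI act : MulAction N G := MulAction.compHom G ((MulAut.conj : G →* MulAut G).comp N.subtype)
    have hsmul : ∀ (n : N) (g : G), n • g = (n : G) * g * (n : G)⁻¹ := fun n g => rfl
    have e1 : MulAction.orbit N x = (fib p N (f x) : Set G) := by
      ext y
      constructor
      · rintro ⟨n, rfl⟩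
        show n • x ∈ fib p N (f x)
        rw [hsmul]
        refine mem_fib.2 ⟨mem_El.2 ?_, ?_⟩
        · rw [isPGroup_zpowers_iff, show (n : G) * x * (n : G)⁻¹ = (MulAut.conj (n : G)).toMonoidHom x from rfl,
            orderOf_injective _ (MulAut.conj (n : G)).injective, ← isPGroup_zpowers_iff]
          exact mem_El.1 (mem_El_of_mem P hx)
        · show f ((n : G) * x * (n : G)⁻¹) = f x
          rw [map_mul, map_mul, map_inv, show f n = 1 from (QuotientGroup.eq_one_iff (n : G)).2 n.2]
          group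
      · intro hy
        obtain ⟨n, hn, rfl⟩ := hfibx x hx y hy
        exact ⟨⟨n, hn⟩, rfl⟩
    have e2 : MulAction.stabilizer N x = (centralizer ({x} : Set G)).subgroupOf N := by
      ext n
      rw [MulAction.mem_stabilizer_iff, hsmul, mem_subgroupOf, mem_centralizer_singleton_iff, mul_inv_eq_iff_eq_mul]
    have h := MulAction.index_stabilizer N x
    rw [e1, e2, Set.ncard_coe_finset] at h
    rw [← h, ← ((centralizer ({x} : Set G)).subgroupOf N).card_mul_index, mul_comm]
    congr 1
    rw [← card_map_of_injective (K := (centralizer ({x} : Set G)).subgroupOf N) N.subtype_injective,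
      subgroupOf_map_subtype, inf_comm]
  set C := N ⊓ centralizer ((P : Subgroup G) : Set G)
  have hineq := ineq P.2 N le_normalizer_normal hN
  refine le_trans ?_ (step N hB L hL
    (fun a => (∑ x ∈ fib p N a, L x) / (fib p N a).card + Real.log (fib p N a).card) (fun a => rfl) Pq)
  refine Real.exp_le_exp.2 ?_
  -- the Sylow counts
  have hn : Nat.card (Sylow p G) * Nat.card C ≤ Nat.card (Sylow p (G ⧸ N)) * Nat.card N := by
    set D := (P : Subgroup G) ⊔ N
    have hcomap : ((P : Subgroup G).map f).comap f = D := by rw [comap_map_eq, QuotientGroup.ker_mk']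
    have e1 : Nat.card (Sylow p (G ⧸ N)) = (normalizer (D : Set G)).index := by
      rw [Pq.card_eq_index_normalizer]
      show (normalizer ((((P : Subgroup G).map f : Subgroup (G ⧸ N))) : Set (G ⧸ N))).index = _
      rw [← index_comap_of_surjective _ (QuotientGroup.mk'_surjective N),
        comap_normalizer_eq_of_surjective _ (QuotientGroup.mk'_surjective N), hcomap]
    set NP := normalizer ((P : Subgroup G) : Set G)
    have hle : normalizer (D : Set G) ≤ N ⊔ NP := by
      intro g hg
      have hgP : ((g • P : Sylow p G) : Subgroup G) ≤ D := by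
        rintro _ ⟨a, ha, rfl⟩
        exact (mem_normalizer_iff.1 hg a).1 ((le_sup_left : _ ≤ D) ha)
      obtain ⟨d, hd⟩ := MulAction.exists_smul_eq D ((g • P).subtype hgP) (P.subtype le_sup_left)
      have h1 : ((d : G) * g) • P = P := by
        refine Sylow.ext (le_antisymm ?_ ?_)
        · rintro _ ⟨a, ha, rfl⟩
          have hb : g * a * g⁻¹ ∈ ((g • P : Sylow p G) : Subgroup G) := ⟨a, ha, rfl⟩
          have h2 : d * ⟨g * a * g⁻¹, hgP hb⟩ * d⁻¹ ∈ ((P.subtype le_sup_left : Sylow p D) : Subgroup D) := by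
            rw [← hd]; exact ⟨⟨g * a * g⁻¹, hgP hb⟩, hb, rfl⟩
          have h3 : (d : G) * (g * a * g⁻¹) * (d : G)⁻¹ ∈ (P : Subgroup G) := h2
          show (d : G) * g * a * ((d : G) * g)⁻¹ ∈ (P : Subgroup G)
          rwa [show (d : G) * g * a * ((d : G) * g)⁻¹ = (d : G) * (g * a * g⁻¹) * (d : G)⁻¹ by group]
        · intro a ha
          have h2 : (⟨a, (le_sup_left : _ ≤ D) ha⟩ : D) ∈ ((P.subtype le_sup_left : Sylow p D) : Subgroup D) := ha
          rw [← hd] at h2
          obtain ⟨b, ⟨c, hc, hcb⟩, hba⟩ := h2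
          refine ⟨c, hc, ?_⟩
          show (d : G) * g * c * ((d : G) * g)⁻¹ = a
          have h4 : g * c * g⁻¹ = (b : G) := hcb
          have h5 : (d : G) * (b : G) * (d : G)⁻¹ = a := congrArg Subtype.val hba
          rw [← h5, ← h4]; group
      have h2 : (d : G) * g ∈ N ⊔ NP := (le_sup_right : NP ≤ _) (Sylow.smul_eq_iff_mem_normalizer.1 h1)
      have h3 : (d : G) ∈ N ⊔ NP := (sup_le (le_normalizer.trans le_sup_right) le_sup_left : D ≤ _) d.2
      have := mul_mem (inv_mem h3) h2
      rwa [inv_mul_cancel_left] at this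
    have e2 : (normalizer (D : Set G)).index * Nat.card (N ⊔ NP : Subgroup G) ≥ Nat.card G := by
      calc Nat.card G = Nat.card (normalizer (D : Set G)) * (normalizer (D : Set G)).index := (card_mul_index _).symm
        _ ≤ _ := by rw [mul_comm]; exact Nat.mul_le_mul_left _ (card_le_of_le hle)
    have e3 := Cfsg.Lib.Coprime.card_sup_mul_card_inf (N := N) (H := NP) le_normalizer_normal
    have e4 : Nat.card C ≤ Nat.card (N ⊓ NP : Subgroup G) := card_le_of_le (inf_le_inf_left _ (centralizer_le_normalizer _))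
    have e5 : Nat.card (Sylow p G) * Nat.card NP = Nat.card G := card_sylow P
    rw [e1]
    refine Nat.le_of_mul_le_mul_right ?_ (Nat.card_pos (α := NP))
    calc Nat.card (Sylow p G) * Nat.card C * Nat.card NP = Nat.card G * Nat.card C := by rw [← e5]; ring
      _ ≤ (normalizer (D : Set G)).index * Nat.card (N ⊔ NP : Subgroup G) * Nat.card (N ⊓ NP : Subgroup G) :=
        Nat.mul_le_mul e2 e4
      _ = _ := by rw [mul_assoc, e3]; ring
  rw [sum_sylow Pq (fun a => (∑ x ∈ fib p N a, L x) / (fib p N a).card + Real.log (fib p N a).card), sum_sylow P L]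
  have himg : Finset.univ.filter (· ∈ (Pq : Subgroup (G ⧸ N))) =
      (Finset.univ.filter (· ∈ (P : Subgroup G))).image f := by
    ext a; simp [hPq, Subgroup.mem_map]
  have hinj' : Set.InjOn f (Finset.univ.filter (· ∈ (P : Subgroup G)) : Finset G) := fun x hx y hy h =>
    hinj x (Finset.mem_filter.1 hx).2 y (Finset.mem_filter.1 hy).2 h
  have hcardP : Nat.card (Pq : Subgroup (G ⧸ N)) = Nat.card (P : Subgroup G) := by
    rw [← card_filter_mem (Pq : Subgroup (G ⧸ N)), ← card_filter_mem (P : Subgroup G), himg,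
      Finset.card_image_of_injOn hinj']
  rw [himg, Finset.sum_image hinj', hcardP]
  set Ps := Finset.univ.filter (· ∈ (P : Subgroup G))
  have hterm : ∀ x ∈ Ps, (∑ y ∈ fib p N (f x), L y) / (fib p N (f x)).card + Real.log (fib p N (f x)).card =
      L x + (Real.log (Nat.card N) - Real.log (Nat.card (N ⊓ centralizer ({x} : Set G) : Subgroup G))) := by
    intro x hx
    obtain ⟨h1, h2⟩ := hfib x (Finset.mem_filter.1 hx).2
    have hpos : 0 < (fib p N (f x)).card :=
      Finset.card_pos.2 ⟨x, mem_fib.2 ⟨mem_El_of_mem P (Finset.mem_filter.1 hx).2, rfl⟩⟩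
    have hr1 : ((fib p N (f x)).card : ℝ) ≠ 0 := by exact_mod_cast hpos.ne'
    have hr2 : (Nat.card (N ⊓ centralizer ({x} : Set G) : Subgroup G) : ℝ) ≠ 0 := by exact_mod_cast Nat.card_pos.ne'
    rw [Finset.sum_congr rfl h1, Finset.sum_const, nsmul_eq_mul, mul_div_cancel_left₀ _ hr1, ← h2, Nat.cast_mul,
      Real.log_mul hr1 hr2]
    ring
  rw [Finset.sum_congr rfl hterm, Finset.sum_add_distrib, Finset.sum_sub_distrib, Finset.sum_const,
    card_filter_mem, nsmul_eq_mul]
  -- logarithmic form of the inequality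
  set S := ∑ x ∈ Ps, Real.log (Nat.card (N ⊓ centralizer ({x} : Set G) : Subgroup G)) with hS
  have hlog : (p : ℝ) * S ≤ (Nat.card (P : Subgroup G) : ℝ) * Real.log (Nat.card N) +
      ((p : ℝ) - 1) * Nat.card (P : Subgroup G) * Real.log (Nat.card C) := by
    letI := Fintype.ofFinite (P : Subgroup G)
    have h1 : Real.log (((∏ x : (P : Subgroup G), Nat.card (N ⊓ centralizer ({(x : G)} : Set G) : Subgroup G)) ^ p : ℕ) : ℝ) ≤
        Real.log ((Nat.card N ^ Nat.card (P : Subgroup G) * Nat.card C ^ ((p - 1) * Nat.card (P : Subgroup G)) : ℕ) : ℝ) := by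
      refine Real.log_le_log ?_ (by exact_mod_cast hineq)
      exact_mod_cast pow_pos (Finset.prod_pos fun x _ => Nat.card_pos) p
    push_cast at h1
    rw [Real.log_pow, Real.log_prod, Real.log_mul, Real.log_pow, Real.log_pow] at h1
    · rw [hS, ← sum_sylow P fun g => Real.log (Nat.card (N ⊓ centralizer ({g} : Set G) : Subgroup G))]
      push_cast [Nat.cast_sub hp.out.one_le] at h1
      linarith [h1]
    · exact pow_ne_zero _ (Nat.cast_ne_zero.2 Nat.card_pos.ne')
    · exact pow_ne_zero _ (Nat.cast_ne_zero.2 Nat.card_pos.ne')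
    · exact fun x _ => Nat.cast_ne_zero.2 Nat.card_pos.ne'
  have hnlog : Real.log (Nat.card (Sylow p G)) + Real.log (Nat.card C) ≤
      Real.log (Nat.card (Sylow p (G ⧸ N))) + Real.log (Nat.card N) := by
    rw [← Real.log_mul, ← Real.log_mul]
    · refine Real.log_le_log ?_ (by exact_mod_cast hn)
      exact_mod_cast Nat.mul_pos Nat.card_pos Nat.card_pos
    all_goals exact Nat.cast_ne_zero.2 Nat.card_pos.ne'
  have hPpos : (0 : ℝ) < Nat.card (P : Subgroup G) := by exact_mod_cast Nat.card_pos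
  have hp1 : (1 : ℝ) ≤ p := by exact_mod_cast hp.out.one_le
  set k : ℝ := (Nat.card (P : Subgroup G) : ℝ)
  have key : expo p * Real.log (Nat.card (Sylow p G)) ≤
      expo p * Real.log (Nat.card (Sylow p (G ⧸ N))) + (k * Real.log (Nat.card N) - S) / k := by
    have ha : 0 ≤ expo p := div_nonneg (by linarith) (by linarith)
    have h1 := mul_le_mul_of_nonneg_left hnlog ha
    have h2 : expo p * (Real.log (Nat.card N) - Real.log (Nat.card C)) ≤ (k * Real.log (Nat.card N) - S) / k := by
      rw [le_div_iff₀ hPpos, div_mul_eq_mul_div, div_mul_eq_mul_div, div_le_iff₀ (by linarith)]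
      nlinarith [hlog]
    nlinarith [h1, h2]
  rw [add_div]
  linarith [key]

theorem bound_all : ∀ (n : ℕ) (G : Type u) [Group G] [Finite G], Nat.card G ≤ n → Cfsg.IsPSolvable p G → Bound p G := by
  intro n
  induction n using Nat.strong_induction_on with
  | _ n IH =>
    intro G _ _ hcard hsol
    classical
    by_cases ht : Nontrivial G
    · have step' : ∀ N : Subgroup G, N.Normal → N ≠ ⊥ → Nat.card (G ⧸ N) < n := by
        intro N _ hN
        refine lt_of_lt_of_le ?_ hcard
        rw [card_eq_card_quotient_mul_card_subgroup N]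
        exact lt_mul_of_one_lt_right Nat.card_pos ((Subgroup.one_lt_card_iff_ne_bot N).2 hN)
      rcases Cfsg.Lib.GaschutzYen.exists_core_ne_bot (p := p) hsol with h | h
      · haveI := Cfsg.Lib.Components.pCore_normal' (G := G) p
        exact bound_of_pGroup _ (Cfsg.Lib.Components.isPGroup_pCore p)
          (IH _ (step' _ inferInstance h) _ le_rfl (Cfsg.Lib.GaschutzYen.isPSolvable_quotient _ hsol))
      · haveI := Cfsg.Lib.Components.pPrimeCore_normal' (G := G) p
        refine bound_of_coprime _ (fun hd => ?_)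
          (IH _ (step' _ inferInstance h) _ le_rfl (Cfsg.Lib.GaschutzYen.isPSolvable_quotient _ hsol))
        have := (Cfsg.Lib.Components.coprime_card_pPrimeCore (G := G) p)
        exact hp.out.one_lt.ne' (Nat.dvd_one.1 (this.gcd_eq_one ▸ Nat.dvd_gcd hd dvd_rfl))
    · haveI := not_nontrivial_iff_subsingleton.1 ht
      intro L hL P
      have h1 : Nat.card (P : Subgroup G) = 1 := Nat.card_eq_one_iff_unique.2 ⟨inferInstance, inferInstance⟩
      have h2 : Nat.card (Sylow p G) = 1 := by
        rw [P.card_eq_index_normalizer, index_eq_one]; exact Subsingleton.elim _ _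
      have h3 : (1 : G) ∈ El p G := mem_El.2 (by rw [zpowers_one_eq_bot]; exact IsPGroup.of_bot)
      letI := Fintype.ofFinite (P : Subgroup G)
      rw [h1, h2, Finset.sum_eq_single (1 : (P : Subgroup G)) (fun b _ hb => absurd (Subsingleton.elim b 1) hb)
        (fun hh => absurd (Finset.mem_univ _) hh)]
      simp only [Nat.cast_one, Real.log_one, mul_zero, zero_add, div_one, Subgroup.coe_one]
      exact Finset.single_le_sum (f := fun x => Real.exp (L x)) (fun i _ => (Real.exp_pos _).le) h3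

theorem main (hG : Cfsg.IsPSolvable p G) (P : Sylow p G) :
    Nat.card (P : Subgroup G) ^ p * Nat.card (Sylow p G) ^ (p - 1) ≤
      Nat.card {g : G // ∃ k : ℕ, orderOf g = p ^ k} ^ p := by
  classical
  have h := bound_all (Nat.card G) G le_rfl hG (fun _ => 0) (fun _ _ => rfl) P
  have e : Nat.card {g : G // ∃ k : ℕ, orderOf g = p ^ k} = (El p G).card := by
    rw [← Nat.card_eq_finsetCard]
    exact Nat.card_congr (Equiv.subtypeEquivRight fun g => (mem_El.trans isPGroup_zpowers_iff).symm)
  simp only [Finset.sum_const_zero, zero_div, add_zero, Real.exp_zero, Finset.sum_const, nsmul_eq_mul, mul_one] at h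
  have hP : (0 : ℝ) < Nat.card (P : Subgroup G) := by exact_mod_cast Nat.card_pos
  have hn : (0 : ℝ) < Nat.card (Sylow p G) := by exact_mod_cast Nat.card_pos
  have hp0 : (p : ℝ) ≠ 0 := by exact_mod_cast hp.out.ne_zero
  have h' := pow_le_pow_left₀ (Real.exp_pos _).le h p
  rw [← Real.exp_nat_mul, mul_add, show (p : ℝ) * (expo p * Real.log (Nat.card (Sylow p G))) =
      ((p - 1 : ℕ) : ℝ) * Real.log (Nat.card (Sylow p G)) by
    rw [Nat.cast_sub hp.out.one_le, Nat.cast_one, ← mul_assoc, mul_div_cancel₀ _ hp0],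
    Real.exp_add, Real.exp_nat_mul, Real.exp_nat_mul, Real.exp_log hP, Real.exp_log hn] at h'
  rw [e]
  exact_mod_cast h'

end Cfsg.Lib.PElementCount
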