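import Cfsg.Agent.Coprime.Sylow

/-! For a `p`-group `P` acting coprimely on `V`, the geometric mean of `|C_V(x)|`, `x ∈ P`, is at
most `|V|^(1/p) * |C_V(P)|^(1 - 1/p)`. -/

set_option autoImplicit false
set_option linter.unusedSectionVars false
set_option linter.style.haveILetI false

namespace Cfsg.Lib.PElementCount

open Subgroup
open scoped Pointwise commutatorElement

/-- the fixed subgroup of an automorphism -/
def fix {A : Type*} [Group A] (σ : MulAut A) : Subgroup A where
  carrier := {v | σ v = v}
  mul_mem' := fun {a b} (ha : σ a = a) (hb : σ b = b) => show σ (a * b) = a * b by rw [map_mul, ha, hb]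
  one_mem' := map_one σ
  inv_mem' := fun {a} (ha : σ a = a) => show σ a⁻¹ = a⁻¹ by rw [map_inv, ha]

theorem mem_fix {A : Type*} [Group A] {σ : MulAut A} {v : A} : v ∈ fix σ ↔ σ v = v := Iff.rfl

theorem fix_pow {A : Type*} [Group A] {σ : MulAut A} {v : A} (h : σ v = v) (k : ℕ) : (σ ^ k) v = v := by
  induction k with
  | zero => rfl
  | succ k ih => rw [pow_succ, MulAut.mul_apply, h, ih]

theorem irred {A P : Type*} [CommGroup A] [Finite A] [Group P] [Fintype P] {p : ℕ} [hp : Fact p.Prime]
    (hcop : ¬ p ∣ Nat.card A) (f : P →* MulAut A) (z : P) (hz : fix (f z) = ⊥)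
    (hcomm : ∀ x, Commute (f x) (f z)) (hzp : f z ^ p = 1) :
    (∏ x : P, Nat.card (fix (f x))) ^ p ≤ Nat.card A ^ Fintype.card P := by
  classical
  set ζ := f z
  have key : ∀ x : P, ∏ i : Fin p, Nat.card (fix (f (x * z ^ (i : ℕ)))) ≤ Nat.card A := by
    intro x
    rw [← Nat.card_pi]
    refine Nat.card_le_card_of_injective
      (fun v : (i : Fin p) → fix (f (x * z ^ (i : ℕ))) => ∏ i, (v i : A)) ?_
    have hker : ∀ u : (i : Fin p) → fix (f (x * z ^ (i : ℕ))), ∏ i, (u i : A) = 1 → u = 1 := by
      intro u hu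
      have hfx : ∀ (i : Fin p) (k : ℕ), (f x ^ k) (u i : A) = (ζ ^ ((p - i) * k)) (u i : A) := by
        intro i k
        have h0 : f (x * z ^ (i : ℕ)) (u i : A) = u i := (u i).2
        generalize (u i : A) = w at h0 ⊢
        rw [map_mul, map_pow, MulAut.mul_apply] at h0
        have h3 : f x w = (ζ ^ (p - i)) w := by
          conv_rhs => rw [← h0]
          rw [← MulAut.mul_apply, ← MulAut.mul_apply,
            ← ((hcomm x).pow_right (p - i)).eq, mul_assoc, ← pow_add, Nat.sub_add_cancel i.2.le, hzp, mul_one]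
        induction k with
        | zero => rw [pow_zero, mul_zero, pow_zero]
        | succ k ih =>
          rw [pow_succ, MulAut.mul_apply, h3, ← MulAut.mul_apply, (((hcomm x).pow_left k).pow_right _).eq,
            MulAut.mul_apply, ih, ← MulAut.mul_apply, ← pow_add, Nat.mul_succ, add_comm]
      funext j
      apply Subtype.ext
      show (u j : A) = 1
      have h4 : ∏ i : Fin p, ∏ k ∈ Finset.range p,
          (ζ ^ (((j : ℕ) + (p - (i : ℕ))) * k)) (u i : A) = 1 := by
        rw [Finset.prod_comm]
        refine Finset.prod_eq_one fun k _ => ?_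
        simp_rw [add_mul, pow_add, MulAut.mul_apply, ← hfx]
        rw [← map_prod, ← map_prod, hu, map_one, map_one]
      rw [Finset.prod_eq_single j] at h4
      · have h5 : ∀ k ∈ Finset.range p, (ζ ^ (((j : ℕ) + (p - j)) * k)) (u j : A) = u j := by
          intro k _
          rw [Nat.add_sub_cancel' j.2.le, pow_mul, hzp, one_pow]; rfl
        rw [Finset.prod_congr rfl h5, Finset.prod_const, Finset.card_range] at h4
        have h6 : orderOf (u j : A) ∣ 1 := by
          have ha := orderOf_dvd_of_pow_eq_one h4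
          have hb := _root_.orderOf_dvd_natCard (u j : A)
          exact (Nat.Coprime.gcd_eq_one (hp.out.coprime_iff_not_dvd.2 hcop)) ▸ Nat.dvd_gcd ha hb
        exact orderOf_eq_one_iff.1 (Nat.dvd_one.1 h6)
      · intro i _ hij
        set τ := ζ ^ ((j : ℕ) + (p - i))
        have hw : τ (∏ k ∈ Finset.range p, (τ ^ k) (u i : A)) = ∏ k ∈ Finset.range p, (τ ^ k) (u i : A) := by
          rw [map_prod]
          simp_rw [← MulAut.mul_apply, ← pow_succ']
          have e1 := Finset.prod_range_succ' (fun k => (τ ^ k) (u i : A)) p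
          rw [Finset.prod_range_succ] at e1
          have e2 : (τ ^ p) (u i : A) = (τ ^ 0) (u i : A) := by
            rw [← pow_mul, mul_comm, pow_mul, hzp, one_pow, pow_zero]
          rw [e2] at e1
          exact (mul_right_cancel e1).symm
        have hnd : ¬ p ∣ (j : ℕ) + (p - i) := by
          intro hd
          apply hij
          obtain ⟨c, hc⟩ := hd
          have h1 := i.2
          have h2 := j.2
          have hlt : p * c < p * 2 := by omega
          have hpos : 0 < p * c := by omega
          have hc2 : c < 2 := Nat.lt_of_mul_lt_mul_left hlt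
          have hc1 : 0 < c := Nat.pos_of_mul_pos_left hpos
          obtain rfl : c = 1 := by omega
          exact Fin.ext (by omega)
        have hfix1 : ∀ w, τ w = w → w = 1 := by
          intro w hw
          obtain ⟨c, hc⟩ : ∃ c, ((j : ℕ) + (p - i)) * c % p = 1 := by
            have := (Nat.coprime_comm.1 (hp.out.coprime_iff_not_dvd.2 hnd))
            obtain ⟨c, -, hc⟩ := Nat.exists_mul_mod_eq_one_of_coprime this hp.out.one_lt
            exact ⟨c, hc⟩
          have e : τ ^ c = ζ := by
            rw [← pow_mul, ← Nat.mod_add_div (((j : ℕ) + (p - i)) * c) p, hc, pow_add, pow_mul, hzp, one_pow,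
              mul_one, pow_one]
          have : w ∈ fix ζ := mem_fix.2 (e ▸ fix_pow hw c)
          rwa [hz, mem_bot] at this
        have := hfix1 _ hw
        simp only [τ, ← pow_mul] at this
        exact this
      · intro h; exact absurd (Finset.mem_univ j) h
    intro v w hvw
    simp only at hvw
    have h := hker (v * w⁻¹) (by
      simp only [Pi.mul_apply, Pi.inv_apply, Subgroup.coe_mul, Subgroup.coe_inv, Finset.prod_mul_distrib,
        Finset.prod_inv_distrib, hvw, mul_inv_cancel])
    exact mul_inv_eq_one.1 h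
  have e : (∏ x : P, Nat.card (fix (f x))) ^ p = ∏ x : P, ∏ i : Fin p, Nat.card (fix (f (x * z ^ (i : ℕ)))) := by
    rw [Finset.prod_comm]
    have : ∀ i : Fin p, ∏ x : P, Nat.card (fix (f (x * z ^ (i : ℕ)))) = ∏ x : P, Nat.card (fix (f x)) :=
      fun i => Fintype.prod_equiv (Equiv.mulRight (z ^ (i : ℕ))) _ _ fun x => rfl
    rw [Finset.prod_congr rfl fun i _ => this i, Finset.prod_const, Finset.card_univ, Fintype.card_fin]
  rw [e]
  refine (Finset.prod_le_prod' fun x _ => key x).trans ?_
  simp

variable {G : Type*} [Group G] [Finite G] {p : ℕ} [hp : Fact p.Prime]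

/-- the inequality for a `P`-invariant subgroup `V` -/
def Ineq (p : ℕ) (P V : Subgroup G) : Prop :=
  letI := Fintype.ofFinite P
  (∏ x : P, Nat.card (V ⊓ centralizer ({(x : G)} : Set G) : Subgroup G)) ^ p ≤
    Nat.card V ^ Nat.card P * Nat.card (V ⊓ centralizer (P : Set G) : Subgroup G) ^ ((p - 1) * Nat.card P)

theorem le_normalizer_bot {V : Subgroup G} : V ≤ normalizer ((⊥ : Subgroup G) : Set G) :=
  le_top.trans (le_of_eq (normalizer_eq_top_iff.2 inferInstance).symm)

theorem le_normalizer_commutator_self {P V : Subgroup G} (h : P ≤ normalizer (V : Set G)) :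
    P ≤ normalizer ((⁅V, V⁆ : Subgroup G) : Set G) := by
  intro a ha
  have key : ∀ b ∈ normalizer (V : Set G), ∀ x ∈ ⁅V, V⁆, b * x * b⁻¹ ∈ ⁅V, V⁆ := by
    intro b hb x hx
    have h1 : (V.map (MulAut.conj b).toMonoidHom) = V := Cfsg.Lib.Coprime.conjMap_eq_self hb
    have h2 := mem_map_of_mem (MulAut.conj b).toMonoidHom hx
    rw [map_commutator, h1] at h2
    exact h2
  refine Cfsg.Lib.Coprime.mem_normalizer_of_conj_mem (key a (h ha)) fun x hx => ?_
  have := key a⁻¹ (inv_mem (h ha)) x hx
  rwa [inv_inv] at this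

theorem exists_central_mod {P : Subgroup G} (hP : IsPGroup p P) (K : Subgroup P) [K.Normal] (hK : K ≠ ⊤) :
    ∃ z : P, z ∉ K ∧ z ^ p ∈ K ∧ ∀ x : P, x * z * x⁻¹ * z⁻¹ ∈ K := by
  haveI : Nontrivial (P ⧸ K) := QuotientGroup.nontrivial_iff.2 hK
  haveI := (hP.to_quotient K).center_nontrivial
  have hdvd : p ∣ Nat.card (center (P ⧸ K)) := by
    obtain ⟨k, hk0, hk⟩ := ((hP.to_quotient K).to_subgroup (center (P ⧸ K))).nontrivial_iff_card.1 inferInstance
    exact hk ▸ dvd_pow_self p hk0.ne'
  obtain ⟨c, hc⟩ := exists_prime_orderOf_dvd_card' p hdvd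
  obtain ⟨z, hz⟩ := QuotientGroup.mk'_surjective K (c : P ⧸ K)
  refine ⟨z, fun h => ?_, ?_, fun x => ?_⟩
  · have : c = 1 := Subtype.ext (hz.symm.trans ((QuotientGroup.eq_one_iff z).2 h))
    rw [this, orderOf_one] at hc
    exact hp.out.one_lt.ne hc
  · refine (QuotientGroup.eq_one_iff _).1 ?_
    have := congrArg Subtype.val (pow_orderOf_eq_one c)
    rw [hc, Subgroup.coe_pow, ← hz] at this
    exact this
  · refine (QuotientGroup.eq_one_iff _).1 ?_
    have h1 : (QuotientGroup.mk' K x) * c = c * QuotientGroup.mk' K x := mem_center_iff.1 c.2 _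
    rw [← hz] at h1
    show QuotientGroup.mk' K (x * z * x⁻¹ * z⁻¹) = 1
    rw [map_mul, map_mul, map_mul, map_inv, map_inv, h1]
    group

theorem ineq_qgroup {P : Subgroup G} (hP : IsPGroup p P) {q : ℕ} [Fact q.Prime] (hqp : q ≠ p) :
    ∀ (n : ℕ) (V : Subgroup G), Nat.card V ≤ n → IsPGroup q V → P ≤ normalizer (V : Set G) → Ineq p P V := by
  classical
  intro n
  induction n using Nat.strong_induction_on with
  | _ n IH =>
    intro V hVn hV hPV
    letI := Fintype.ofFinite P
    by_cases hbot : V = ⊥
    · subst hbot; simp [Ineq]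
    -- a maximal proper invariant normal subgroup
    obtain ⟨R, ⟨hRV, hVR, hPR⟩, hmax⟩ := WellFounded.has_min (wellFounded_gt (α := Subgroup G))
      {R | R < V ∧ V ≤ normalizer (R : Set G) ∧ P ≤ normalizer (R : Set G)}
      ⟨⊥, bot_lt_iff_ne_bot.2 hbot, le_normalizer_bot, le_normalizer_bot⟩
    set R₀ := R.subgroupOf V
    haveI : R₀.Normal := (normal_subgroupOf_iff_le_normalizer hRV.le).mpr hVR
    -- the quotient is abelian
    have hcommR : ⁅V, V⁆ ≤ R := by
      haveI := hV.isNilpotent
      have h1 : V ≤ normalizer ((⁅V, V⁆ ⊔ R : Subgroup G) : Set G) :=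
        Cfsg.Lib.Coprime.le_normalizer_sup (le_normalizer_commutator_self le_normalizer) hVR
      have h2 : P ≤ normalizer ((⁅V, V⁆ ⊔ R : Subgroup G) : Set G) :=
        Cfsg.Lib.Coprime.le_normalizer_sup (le_normalizer_commutator_self hPV) hPR
      have hcV : ⁅V, V⁆ ≤ V := V.map_subtype_commutator ▸ map_subtype_le _
      have hne : ⁅V, V⁆ ⊔ R ≠ V := by
        intro heq
        have h3 : (commutator V) ⊔ R₀ = ⊤ := by
          apply map_injective V.subtype_injective
          rw [Subgroup.map_sup, map_subtype_commutator, map_subgroupOf_eq_of_le hRV.le, heq, ← MonoidHom.range_eq_map, range_subtype]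
        haveI : Nontrivial (V ⧸ R₀) := QuotientGroup.nontrivial_iff.2 fun e => hRV.not_ge (subgroupOf_eq_top.1 e)
        haveI : Group.IsNilpotent (V ⧸ R₀) := Group.nilpotent_quotient_of_nilpotent R₀
        refine (Group.IsSolvable.commutator_lt_top_of_nontrivial (G := V ⧸ R₀)).ne ?_
        have h4 := congrArg (Subgroup.map (QuotientGroup.mk' R₀)) h3
        rw [Subgroup.map_sup, QuotientGroup.map_mk'_self, sup_bot_eq, Subgroup.map_top_of_surjective _ (QuotientGroup.mk'_surjective _),
          commutator_def, map_commutator, Subgroup.map_top_of_surjective _ (QuotientGroup.mk'_surjective _)] at h4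
        rw [commutator_def]; exact h4
      by_contra hc
      exact hmax _ ⟨lt_of_le_of_ne (sup_le hcV hRV.le) hne, h1, h2⟩
        (lt_of_le_of_ne le_sup_right fun e => hc (e ▸ le_sup_left))
    set A := V ⧸ R₀
    letI : CommGroup A := { (inferInstance : Group A) with
      mul_comm := fun a b => by
        induction a using QuotientGroup.induction_on with | _ a => ?_
        induction b using QuotientGroup.induction_on with | _ b => ?_
        show ((a * b : V) : A) = ((b * a : V) : A)
        rw [QuotientGroup.eq]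
        show (((a * b)⁻¹ * (b * a) : V) : G) ∈ R
        rw [show (a * b)⁻¹ * (b * a) = ⁅b⁻¹, a⁻¹⁆ by rw [commutatorElement_def]; group]
        exact hcommR (commutator_mem_commutator (b⁻¹).2 (a⁻¹).2) }
    have hconj : ∀ x : P, ∀ v ∈ V, (x : G) * v * (x : G)⁻¹ ∈ V := fun x v hv =>
      (mem_normalizer_iff.1 (hPV x.2) v).1 hv
    -- the action on the quotient
    let c : P → V →* V := fun x => MonoidHom.mk' (fun v => ⟨(x : G) * v * (x : G)⁻¹, hconj x v v.2⟩)
      fun a b => Subtype.ext (by push_cast; group)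
    let c' : P → A →* A := fun x => QuotientGroup.map R₀ R₀ (c x) fun v hv => (mem_normalizer_iff.1 (hPR x.2) _).1 hv
    have hc'mk : ∀ (x : P) (v : V), c' x (v : A) = ((c x v : V) : A) := fun x v => rfl
    have hc'mul : ∀ (x y : P) (a : A), c' (x * y) a = c' x (c' y a) := by
      intro x y a
      induction a using QuotientGroup.induction_on with | _ a => ?_
      rw [hc'mk, hc'mk, hc'mk]
      exact congrArg QuotientGroup.mk (Subtype.ext (by simp [c]; group))
    have hc'one : ∀ a : A, c' 1 a = a := by
      intro a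
      induction a using QuotientGroup.induction_on with | _ a => ?_
      rw [hc'mk]
      exact congrArg QuotientGroup.mk (Subtype.ext (by simp [c]))
    let f : P →* MulAut A :=
      { toFun := fun x =>
          { toFun := c' x, invFun := c' x⁻¹,
            left_inv := fun a => by rw [← hc'mul, inv_mul_cancel, hc'one],
            right_inv := fun a => by rw [← hc'mul, mul_inv_cancel, hc'one],
            map_mul' := map_mul (c' x) }
        map_one' := MulEquiv.ext hc'one
        map_mul' := fun x y => MulEquiv.ext (hc'mul x y) }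
    have hfmk : ∀ (x : P) (v : V), f x (v : A) = ((c x v : V) : A) := fun x v => rfl
    set g : V →* A := QuotientGroup.mk' R₀
    have hcardV : Nat.card V = Nat.card R * Nat.card A := by
      rw [card_eq_card_quotient_mul_card_subgroup R₀, Nat.card_congr (subgroupOfEquivOfLe hRV.le).toEquiv, mul_comm]
    have hx : ∀ x : P, Nat.card (V ⊓ centralizer ({(x : G)} : Set G) : Subgroup G) ≤
        Nat.card (R ⊓ centralizer ({(x : G)} : Set G) : Subgroup G) * Nat.card (fix (f x)) := by
      intro x
      set W := (centralizer ({(x : G)} : Set G)).subgroupOf V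
      set gW := g.comp W.subtype
      have e1 : Nat.card (V ⊓ centralizer ({(x : G)} : Set G) : Subgroup G) = Nat.card W := by
        rw [← card_map_of_injective (K := W) V.subtype_injective, subgroupOf_map_subtype, inf_comm]
      rw [e1, ← gW.ker.card_mul_index, index_ker]
      refine Nat.mul_le_mul ?_ ?_
      · refine Nat.card_le_card_of_injective (fun w => ⟨((w : W) : V), ?_, (w : W).2⟩) ?_
        · exact (QuotientGroup.eq_one_iff (N := R₀) ((w : W) : V)).1 w.2
        · intro a b hab
          exact Subtype.ext (Subtype.ext (Subtype.ext (congrArg Subtype.val hab :)))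
      · refine card_le_of_le ?_
        rintro _ ⟨w, rfl⟩
        show f x ((w : V) : A) = ((w : V) : A)
        rw [hfmk]
        refine congrArg QuotientGroup.mk (Subtype.ext ?_)
        show (x : G) * (w : V) * (x : G)⁻¹ = (w : V)
        have h1 : ((w : V) : G) * (x : G) = (x : G) * ((w : V) : G) := mem_centralizer_singleton_iff.1 w.2
        rw [← h1, mul_inv_cancel_right]
    have hprod : ∏ x : P, Nat.card (V ⊓ centralizer ({(x : G)} : Set G) : Subgroup G) ≤
        (∏ x : P, Nat.card (R ⊓ centralizer ({(x : G)} : Set G) : Subgroup G)) * ∏ x : P, Nat.card (fix (f x)) := by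
      rw [← Finset.prod_mul_distrib]
      exact Finset.prod_le_prod' fun x _ => hx x
    have hR : (∏ x : P, Nat.card (R ⊓ centralizer ({(x : G)} : Set G) : Subgroup G)) ^ p ≤
        Nat.card R ^ Nat.card P * Nat.card (R ⊓ centralizer (P : Set G) : Subgroup G) ^ ((p - 1) * Nat.card P) :=
      IH (Nat.card R) (lt_of_lt_of_le (lt_of_le_of_ne (card_le_of_le hRV.le) fun e => hRV.ne (eq_of_le_of_card_ge hRV.le e.ge)) hVn) R le_rfl (hV.to_le hRV.le) hPR
    show (∏ x : P, Nat.card (V ⊓ centralizer ({(x : G)} : Set G) : Subgroup G)) ^ p ≤ _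
    refine (Nat.pow_le_pow_left hprod p).trans ?_
    rw [mul_pow, hcardV, mul_pow]
    by_cases hK : f.ker = ⊤
    · -- trivial action on `A`
      have htriv : ∀ (x : P) (a : A), f x a = a := fun x a => by
        rw [show f x = 1 from MonoidHom.mem_ker.1 (hK ▸ mem_top x)]; rfl
      have hsurj : Nat.card (R ⊓ centralizer (P : Set G) : Subgroup G) * Nat.card A ≤
          Nat.card (V ⊓ centralizer (P : Set G) : Subgroup G) := by
        set W := (centralizer (P : Set G)).subgroupOf V
        set gW := g.comp W.subtype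
        have e1 : Nat.card (V ⊓ centralizer (P : Set G) : Subgroup G) = Nat.card W := by
          rw [← card_map_of_injective (K := W) V.subtype_injective, subgroupOf_map_subtype, inf_comm]
        rw [e1, ← gW.ker.card_mul_index, index_ker]
        refine Nat.mul_le_mul ?_ ?_
        · refine Nat.card_le_card_of_injective
            (fun r => ⟨⟨⟨r.1, hRV.le r.2.1⟩, r.2.2⟩, (QuotientGroup.eq_one_iff (N := R₀) (⟨r.1, hRV.le r.2.1⟩ : V)).2 r.2.1⟩) ?_
          intro a b hab
          exact Subtype.ext (congrArg (fun t : gW.ker => ((t.1 : V) : G)) hab)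
        · refine Nat.card_le_card_of_injective (fun a : A => (⟨a, ?_⟩ : gW.range)) fun a b hab => congrArg Subtype.val hab
          induction a using QuotientGroup.induction_on with | _ v => ?_
          have hfix : ∀ y ∈ P, y * (v : G) * y⁻¹ * (v : G)⁻¹ ∈ R := by
            intro y hy
            have h1 := QuotientGroup.eq.1 ((htriv ⟨y, hy⟩ (v : A)).symm.trans (hfmk ⟨y, hy⟩ v))
            have h2 : (v : G)⁻¹ * (y * v * y⁻¹) ∈ R := h1
            have h3 := (mem_normalizer_iff.1 (hVR v.2) _).1 h2
            rwa [show (v : G) * ((v : G)⁻¹ * (y * v * y⁻¹)) * (v : G)⁻¹ = y * v * y⁻¹ * (v : G)⁻¹ by group] at h3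
          obtain ⟨k, hk, hkc⟩ := Cfsg.Lib.Coprime.exists_fixed_of_commutator_mem hPR
            (IsPGroup.coprime_card_of_ne p q (Ne.symm hqp) P R hP (hV.to_le hRV.le))
            (Or.inl (by haveI := hP.isNilpotent; infer_instance)) (hVR v.2) hfix
          refine ⟨⟨⟨(v : G) * k, mul_mem v.2 (hRV.le hk)⟩, hkc⟩, ?_⟩
          show ((⟨(v : G) * k, _⟩ : V) : A) = (v : A)
          rw [QuotientGroup.eq]
          show ((v : G) * k)⁻¹ * (v : G) ∈ R
          rw [show ((v : G) * k)⁻¹ * (v : G) = k⁻¹ by group]
          exact inv_mem hk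
      calc _ ≤ (Nat.card R ^ Nat.card P * Nat.card (R ⊓ centralizer (P : Set G) : Subgroup G) ^ ((p - 1) * Nat.card P))
            * (Nat.card A ^ Nat.card P) ^ p := by
              refine Nat.mul_le_mul hR (Nat.pow_le_pow_left ?_ p)
              rw [Nat.card_eq_fintype_card (α := P), ← Finset.card_univ, ← Finset.prod_const]
              exact Finset.prod_le_prod' fun x _ => card_le_card_group _
        _ = (Nat.card R ^ Nat.card P * Nat.card A ^ Nat.card P) *
            (Nat.card (R ⊓ centralizer (P : Set G) : Subgroup G) * Nat.card A) ^ ((p - 1) * Nat.card P) := by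
              obtain ⟨k, rfl⟩ : ∃ k, p = k + 1 := ⟨p - 1, (Nat.succ_pred_eq_of_pos hp.out.pos).symm⟩
              rw [Nat.add_sub_cancel]; ring
        _ ≤ _ := Nat.mul_le_mul_left _ (Nat.pow_le_pow_left hsurj _)
    · -- non-trivial action on `A`
      obtain ⟨z, hzK, hzp, hzc⟩ := exists_central_mod hP f.ker hK
      have hcomm : ∀ x, Commute (f x) (f z) := by
        intro x
        have h1 := MonoidHom.mem_ker.1 (hzc x)
        rw [map_mul, map_mul, map_mul, map_inv, map_inv] at h1
        exact mul_inv_eq_iff_eq_mul.1 (mul_inv_eq_one.1 h1)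
      set F := fix (f z)
      set R₂ := (F.comap g).map V.subtype
      have hR₂V : R₂ ≤ V := map_subtype_le _
      have hRR₂ : R ≤ R₂ := fun r hr => by
        refine ⟨⟨r, hRV.le hr⟩, ?_, rfl⟩
        show g ⟨r, hRV.le hr⟩ ∈ F
        have h1 : g ⟨r, hRV.le hr⟩ = 1 := (QuotientGroup.eq_one_iff (N := R₀) (⟨r, hRV.le hr⟩ : V)).2 hr
        rw [h1]
        exact one_mem F
      have hz : F = ⊥ := by
        by_contra hF
        obtain ⟨a, haF, ha1⟩ := (Subgroup.bot_or_exists_ne_one F).resolve_left hF
        obtain ⟨v, rfl⟩ := QuotientGroup.mk'_surjective R₀ a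
        have hlt : R < R₂ := lt_of_le_of_ne hRR₂ fun e => ha1 (by
          have : (v : G) ∈ R := e ▸ ⟨v, haF, rfl⟩
          exact (QuotientGroup.eq_one_iff v).2 this)
        have hPR₂ : P ≤ normalizer (R₂ : Set G) := by
          have key : ∀ x : P, ∀ r ∈ R₂, (x : G) * r * (x : G)⁻¹ ∈ R₂ := by
            rintro x _ ⟨w, hw, rfl⟩
            refine ⟨c x w, ?_, rfl⟩
            show f z (g (c x w)) = g (c x w)
            rw [show g (c x w) = f x (g w) from (hfmk x w).symm, ← MulAut.mul_apply, ← (hcomm x).eq,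
              MulAut.mul_apply, show f z (g w) = g w from hw]
          intro y hy
          refine Cfsg.Lib.Coprime.mem_normalizer_of_conj_mem (key ⟨y, hy⟩) fun r hr => ?_
          have := key ⟨y, hy⟩⁻¹ r hr
          rwa [Subgroup.coe_inv, inv_inv] at this
        have hVR₂ : V ≤ normalizer (R₂ : Set G) := by
          intro y hy
          have key : ∀ b ∈ V, ∀ r ∈ R₂, b * r * b⁻¹ ∈ R₂ := by
            intro b hb r hr
            have h1 : ⁅b, r⁆ ∈ R₂ := hRR₂ (hcommR (commutator_mem_commutator hb (hR₂V hr)))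
            rw [commutatorElement_def] at h1
            have := mul_mem h1 hr
            rwa [inv_mul_cancel_right] at this
          refine Cfsg.Lib.Coprime.mem_normalizer_of_conj_mem (key y hy) fun r hr => ?_
          have := key y⁻¹ (inv_mem hy) r hr
          rwa [inv_inv] at this
        rcases eq_or_lt_of_le hR₂V with heq | hlt2
        · refine hzK (MonoidHom.mem_ker.2 (MulEquiv.ext fun a => ?_))
          induction a using QuotientGroup.induction_on with | _ v => ?_
          obtain ⟨w, hw, hwv⟩ := heq.ge v.2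
          rw [← Subtype.ext hwv]
          exact hw
        · exact hmax R₂ ⟨hlt2, hVR₂, hPR₂⟩ hlt
      have hcopA : ¬ p ∣ Nat.card A := fun hd => by
        obtain ⟨k, hk⟩ := IsPGroup.iff_card.1 (hV.to_quotient R₀)
        exact hqp ((Nat.prime_dvd_prime_iff_eq hp.out Fact.out).1 (hp.out.dvd_of_dvd_pow (hk ▸ hd))).symm
      have hmain := irred hcopA f z hz hcomm (by rw [← map_pow]; exact MonoidHom.mem_ker.1 hzp)
      rw [← Nat.card_eq_fintype_card] at hmain
      calc _ ≤ (Nat.card R ^ Nat.card P * Nat.card (R ⊓ centralizer (P : Set G) : Subgroup G) ^ ((p - 1) * Nat.card P))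
            * Nat.card A ^ Nat.card P := Nat.mul_le_mul hR hmain
        _ = Nat.card R ^ Nat.card P * Nat.card A ^ Nat.card P *
            Nat.card (R ⊓ centralizer (P : Set G) : Subgroup G) ^ ((p - 1) * Nat.card P) := by ring
        _ ≤ _ := Nat.mul_le_mul_left _ (Nat.pow_le_pow_left
              (card_le_of_le (inf_le_inf_right _ hRV.le)) _)

/-- the inequality for arbitrary coprime `V` -/
theorem ineq {P : Subgroup G} (hP : IsPGroup p P) (V : Subgroup G) (hPV : P ≤ normalizer (V : Set G))
    (hcop : ¬ p ∣ Nat.card V) : Ineq p P V := by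
  classical
  letI := Fintype.ofFinite P
  have hcopP : (Nat.card P).Coprime (Nat.card V) := by
    obtain ⟨k, hk⟩ := IsPGroup.iff_card.1 hP
    exact hk ▸ (hp.out.coprime_iff_not_dvd.2 hcop).pow_left k
  have hsol : Group.IsSolvable P ∨ Group.IsSolvable V := Or.inl (by haveI := hP.isNilpotent; infer_instance)
  set S := (Nat.card V).primeFactors
  have hex : ∀ q ∈ S, ∃ U : Subgroup G, U ≤ V ∧ P ≤ normalizer (U : Set G) ∧ IsPGroup q U ∧
      Nat.card U = q ^ (Nat.card V).factorization q ∧
      ∀ x : P, (q ^ (Nat.card (V ⊓ centralizer ({(x : G)} : Set G) : Subgroup G)).factorization q) ≤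
        Nat.card (U ⊓ centralizer ({(x : G)} : Set G) : Subgroup G) := by
    intro q hq
    haveI := Fact.mk (Nat.prime_of_mem_primeFactors hq)
    obtain ⟨Q, hQ⟩ := Cfsg.Lib.Coprime.exists_invariant_sylow hPV hcopP hsol q
    refine ⟨(Q : Subgroup V).map V.subtype, map_subtype_le _, hQ, Q.2.map _, ?_, fun x => ?_⟩
    · rw [card_map_of_injective V.subtype_injective, Q.card_eq_multiplicity]
    set X := zpowers (x : G)
    set C := V ⊓ centralizer ({(x : G)} : Set G)
    obtain ⟨U⟩ : Nonempty (Sylow q C) := inferInstance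
    have hXP : X ≤ P := zpowers_le.2 x.2
    have hUV : (U : Subgroup C).map C.subtype ≤ V := (map_subtype_le _).trans inf_le_left
    have hUX : X ≤ normalizer (((U : Subgroup C).map C.subtype : Subgroup G) : Set G) := by
      refine zpowers_le.2 (mem_normalizer_fintype fun u hu => ?_)
      have h1 := mem_centralizer_singleton_iff.1 (((map_subtype_le _) hu : u ∈ C).2)
      rw [← h1, mul_inv_cancel_right]
      exact hu
    have hcopX : (Nat.card X).Coprime (Nat.card V) := hcopP.coprime_dvd_left (card_dvd_of_le hXP)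
    have hsolX : Group.IsSolvable X ∨ Group.IsSolvable V := Or.inl (by infer_instance)
    obtain ⟨Q', hUQ', hQ'⟩ := Cfsg.Lib.Coprime.exists_invariant_sylow_ge (hXP.trans hPV) hcopX hsolX q hUV (U.2.map _) hUX
    obtain ⟨d, hd, hdQ⟩ := Cfsg.Lib.Coprime.invariant_sylow_conj (hXP.trans hPV) hcopX hsolX q Q' Q hQ' (hXP.trans hQ)
    rw [← U.card_eq_multiplicity, ← card_map_of_injective C.subtype_injective]
    refine Nat.card_le_card_of_injective (fun u => ⟨(d : G) * u.1 * (d : G)⁻¹, ?_, ?_⟩) ?_
    · obtain ⟨w, hw, hwu⟩ := hUQ' u.2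
      refine ⟨d * w * d⁻¹, ?_, ?_⟩
      · rw [← hdQ]; exact ⟨w, hw, rfl⟩
      · show ((d * w * d⁻¹ : V) : G) = _
        push_cast; rw [show (w : G) = u.1 from hwu]
    · refine mem_centralizer_singleton_iff.2 ?_
      have h1 : Commute (x : G) (d : G) := mem_centralizer_iff.1 hd _ (mem_zpowers _)
      have h2 : Commute u.1 (x : G) := mem_centralizer_singleton_iff.1 (((map_subtype_le _) u.2 : u.1 ∈ C).2)
      exact ((h1.symm.mul_left h2).mul_left h1.inv_right.symm).eq
    · intro a b hab
      exact Subtype.ext (mul_left_cancel (mul_right_cancel (congrArg Subtype.val hab :)))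
  choose! U hUV hUP hUq hUcard hUx using hex
  have hx : ∀ x : P, Nat.card (V ⊓ centralizer ({(x : G)} : Set G) : Subgroup G) ≤
      ∏ q ∈ S, Nat.card (U q ⊓ centralizer ({(x : G)} : Set G) : Subgroup G) := by
    intro x
    set C := V ⊓ centralizer ({(x : G)} : Set G)
    have h1 : Nat.card C = ∏ q ∈ S, q ^ (Nat.card C).factorization q := by
      conv_lhs => rw [← Nat.prod_factorization_pow_eq_self (Nat.card_pos (α := C)).ne']
      rw [Finsupp.prod_of_support_subset]
      · rw [Nat.support_factorization]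
        exact Nat.primeFactors_mono (card_dvd_of_le inf_le_left) Nat.card_pos.ne'
      · intro q _; exact pow_zero q
    exact h1.le.trans (Finset.prod_le_prod' fun q hq => hUx q hq x)
  have hV : ∏ q ∈ S, Nat.card (U q) = Nat.card V := by
    conv_rhs => rw [← Nat.prod_factorization_pow_eq_self (Nat.card_pos (α := V)).ne']
    rw [Nat.prod_factorization_eq_prod_primeFactors]
    exact Finset.prod_congr rfl hUcard
  have hC : ∏ q ∈ S, Nat.card (U q ⊓ centralizer (P : Set G) : Subgroup G) ≤
      Nat.card (V ⊓ centralizer (P : Set G) : Subgroup G) := by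
    refine Nat.le_of_dvd Nat.card_pos (Finset.prod_dvd_of_isRelPrime ?_ fun q hq =>
      card_dvd_of_le (inf_le_inf_right _ (hUV q hq)))
    intro a ha b hb hab
    haveI := Fact.mk (Nat.prime_of_mem_primeFactors ha)
    haveI := Fact.mk (Nat.prime_of_mem_primeFactors hb)
    exact Nat.coprime_iff_isRelPrime.1
      (IsPGroup.coprime_card_of_ne a b hab _ _ ((hUq a ha).to_le inf_le_left) ((hUq b hb).to_le inf_le_left))
  show (∏ x : P, Nat.card (V ⊓ centralizer ({(x : G)} : Set G) : Subgroup G)) ^ p ≤ _
  refine (Nat.pow_le_pow_left (Finset.prod_le_prod' fun x _ => hx x) p).trans ?_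
  rw [Finset.prod_comm, ← Finset.prod_pow]
  refine (Finset.prod_le_prod' (g := fun q => Nat.card (U q) ^ Nat.card P *
    Nat.card (U q ⊓ centralizer (P : Set G) : Subgroup G) ^ ((p - 1) * Nat.card P)) fun q hq => ?_).trans ?_
  · haveI := Fact.mk (Nat.prime_of_mem_primeFactors hq)
    exact ineq_qgroup hP (fun e => hcop (e ▸ Nat.dvd_of_mem_primeFactors hq)) (Nat.card (U q)) (U q) le_rfl
      (hUq q hq) (hUP q hq)
  rw [Finset.prod_mul_distrib, Finset.prod_pow, Finset.prod_pow, hV]
  exact Nat.mul_le_mul_left _ (Nat.pow_le_pow_left hC _)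

end Cfsg.Lib.PElementCount
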